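import Cfsg.Agent.DCoset.Emit

/-! Generated by tools/dcoset/emit.py: the permutation table. -/

set_option Elab.async false

namespace Cfsg.Agent.Co3Rec.Enum

open Cfsg.Agent.DCoset Cfsg.Agent.CosetCert

def actS : Store := (.node 3 (.node 1 (.leaf 0xec004e00950020008f00c30023001300450030000800e7009e00a40046004100c100ac000500860062004b002a00910082001500e5008400df006b00be00cc0048003a004c005c009900b8005200b000b40001009600cd001c005900da00c70093007e00eb005d006a008100b1005f00c500710077003c00280037007000d700b700830000004400a6005e000f0027004200a9008d009a000e00e100310076009800af008c001200e0006900ef00430038000d00800002007900a2000c007c00ba009b009c005300bc00aa00e300e800900088006600140078002c00cb000a003900330026002100ed001000ae007500e200d3006d008a009d00240056003d) (.node 2 (.leaf 0x26008c005e001a00ba000f000a005b002400570005004d0036001d005900520029008e000b007f004d00bb00c8001800740089006500e4001900070032002b006300a800dd00d800a3005100ce00dc004000d600c400ab000600a1008b00c200b300d900540060001100bd009400e9005000b5004700d5007a00d0006f00ad00bf006100ca001b00ea001f0092005a003f008700c6005700cf009700490058002e000900c0006e00d4001a003600de00a7003b009f007200db002200d2008500a500730003001d001e0034005b002f00b20055007d00c9004f00b900680017007b00ee0035002d00d1000400e6001600b6006c00a00064003e0067004a0025)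 (.leaf 0x640040006f0038003d0012006c00ec00c800be007f007b009400e4004400ea000c007300a0003200e1009d008f00a700df00a2004f007400c900e9009100ed002000dc002f00a500b0000d00cc0041004300ef00ae00d300860085001b00c00048006500c30090003b00ee00d7008b00bf0013005d006b000b0045000200e60027004700250083004e0079004b009b005c008d0084005a00b500e5007e0058001000e7002c007d002a00db007c00b200d9009e0016003f00c1008200c4004200d0000e00e8009a008800c200920099000900750093003700de00c600780031003a00d200190070002d00ca001c0063000700140035002b007100cd005f008a))) (.node 4 (.leaf 0xc300da000200190061000c001d00b100e3003500ec00160056008a00b0003f000a002e006a007f00530009002700af001700bd0005009400b80051009e00ce009700a1005100150077006100cf00a80098002300bd00cb0017009f00ce008100b6003e0062002900ad001e00c700b900b8002e00950034006900d8004600eb00aa000000d4004a00a600dd003300a300e3009600d600d1001f00ac0068007a003000bb0006006e009c006700b7000300b4006d00a900da004900c500180011000800e2005500af00870066005300800056003900ab00e00089002200a40060006a0001003c00b10054008e00bc0050007200d500760004004c0028002100b3) (.node 5 (.leaf 0xe20036007a00bb0048002c002800e700ef00c600d50083002500290071005c0079009a0046000e0058001000a3002b00ab006300620045004c003200e000a800850041003c0039008400c0004a002100eb009500260074007e00970013001c008d00bc00b600890054009f00d300c100ba00aa005e008f001800dd00ea00a00011000d005500470008004400010040000600a700ad009b00a9000000ed00980075004b00040093004900cc00b3005f004e00d100520081006700300068008e003400de008b009d005b001f00a6008c00240003001500d400c9007c002000bf006d00d6001b003d0014003b00dc0092004f000f004d000700e600a20091006f)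 (.leaf 0x66005a0070008800d000800072002d003e00500042008200c700ae007b00a40077002300ca006e003a00b4003700d2005900c5009600cd0064001e00c4002f00e900e10012006900e4001a0073008700d9002200b20031005d002a003300600057008600e5009900be000b00d800d700b900df004300b700900038009c006b00ac006500db00c200a500cf00b500e8007800cb006c00a100c8007600ee007d))))

/-- The letters as permutations of 240 points, and the base. -/
noncomputable def tab : Tab where
  k := 4
  nL := 3
  act g p := get16 actS (Nat.add (Nat.mul g 240) p)
  base := 0xf00da00dd0000

theorem tab_act_lt (g p : Nat) : tab.act g p < 65536 := get16_lt _ _

end Cfsg.Agent.Co3Rec.Enum
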